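import Groth.Agent.Dix.TwistClosed490
import Groth.Agent.LoccohB.HHmap
import Groth.Agent.CohqA.H1Lift
import Groth.Agent.Fdesc.LocGenPullback

/-!
# Multiplication by a function cutting out a closed subscheme

`X` a scheme, `r` a global function, `j : Z ⟶ X` a closed immersion whose ideal is generated by `r` on every
affine open.  For an `O_X`-module `F`:

* `pullback_smulHom`: `j^*(r : F ⟶ F) = 0`;
* `kills_cokernel`: `F / r F` is killed by the ideal of `j`;
* `subsingleton_HH_cokernel`, `mapΓ_smulHom_surjective`: if `H^n(Z, j^* F) = 0` and `r : F ⟶ F` is a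
  monomorphism then `r` is surjective on `H^n(X, F)`;
* `exists_lift`: if moreover `H^1(X, F) = 0` then `Γ(X, F) → Γ(Z, j^* F)` is surjective.
-/

set_option autoImplicit false
universe u

open CategoryTheory CategoryTheory.Limits AlgebraicGeometry Opposite TopologicalSpace

namespace Groth.Agent.Sga7.H543.CutSec

open Groth.Agent.Fdesc.LocGen Groth.Agent.Picfga.LineHom Groth.Agent.Dix.IdealModSec
open Groth.Agent.Dix.IdealModCartier Groth.Agent.Dix.TwistClosed490
open Groth.Agent.LoccohB.HHmap
open Groth.Agent.Ega1.ClosedKill (Kills kills_pushforward)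

variable {X Z : Scheme.{u}}

theorem mono_of_injective {P Q : X.Modules} (v : P ⟶ Q)
    (h : ∀ W : X.Opens, Function.Injective (v.app W)) : Mono v := by
  apply (Scheme.Modules.toPresheaf X).mono_of_mono_map
  have : ∀ W, Mono (((Scheme.Modules.toPresheaf X).map v).app W) := fun W =>
    (AddCommGrpCat.mono_iff_injective _).2 (h W.unop)
  exact NatTrans.mono_of_mono_app _

/-- Multiplication by `r` on sections. -/
lemma smulHom_app' (F : X.Modules) (r : Γ(X, ⊤)) (V : X.Opens) (s : Γ(F, V)) :
    (smulHom F r).app V s = (ores (le_top : V ≤ ⊤) r : Γ(X, V)) • s := rfl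

section

variable {I : X.IdealSheafData} {r : Γ(X, ⊤)}

lemma smulHom_comp_eq_zero (hr : ∀ U : X.affineOpens, ores (le_top : U.1 ≤ ⊤) r ∈ I.ideal U)
    {F P : X.Modules} (hP : Kills I P) (η : F ⟶ P) : smulHom F r ≫ η = 0 := by
  rw [smulHom_comp]
  apply Scheme.Modules.hom_ext
  intro U
  ext s
  change (smulHom P r).app U (η.app U s) = 0
  refine section_eq_zero_of_local P U _ fun V hVU => ?_
  rw [← app_res, smulHom_app']
  exact hP V _ (hr V) _

lemma pullback_smulHom (j : Z ⟶ X) [QuasiCompact j]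
    (hr : ∀ U : X.affineOpens, ores (le_top : U.1 ≤ ⊤) r ∈ j.ker.ideal U) (F : X.Modules) :
    (Scheme.Modules.pullback j).map (smulHom F r) = 0 := by
  apply ((Scheme.Modules.pullbackPushforwardAdjunction j).homEquiv _ _).injective
  have h1 := (Scheme.Modules.pullbackPushforwardAdjunction j).homEquiv_naturality_left (smulHom F r)
    (𝟙 ((Scheme.Modules.pullback j).obj F))
  rw [Category.comp_id] at h1
  rw [h1, smulHom_comp_eq_zero hr (kills_pushforward j _)]
  rw [Adjunction.homEquiv_unit, Functor.map_zero, comp_zero]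

/-- `F / r F` is killed by the ideal generated by `r`. -/
lemma kills_cokernel (hI : ∀ U : X.affineOpens, I.ideal U = Ideal.span {ores (le_top : U.1 ≤ ⊤) r})
    (F : X.Modules) : Kills I (cokernel (smulHom F r)) := by
  intro U a ha s
  rw [hI, Ideal.mem_span_singleton'] at ha
  obtain ⟨b, rfl⟩ := ha
  refine res_ext (cokernel (smulHom F r)) (ι := {V : X.Opens // V ≤ U.1 ∧
      ∃ t : Γ(F, V), ∀ e : V ≤ U.1,
        (cokernel.π (smulHom F r)).app V t = res (cokernel (smulHom F r)) e s})
    (fun V => V.1) (fun V => V.2.1) ?_ ?_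
  · intro x hx
    obtain ⟨W, hWU, t, hxW, ht⟩ := Groth.Agent.Dcoh.Restrict.exists_local_preimage
      (cokernel.π (smulHom F r)) U.1 s x hx
    exact Opens.mem_iSup.2 ⟨⟨W, hWU, t, fun e => ht⟩, hxW⟩
  · rintro ⟨V, hVU, t, ht⟩
    have h4 : (cokernel.π (smulHom F r)).app V ((smulHom F r).app V t) = 0 :=
      congr(Scheme.Modules.Hom.app $(cokernel.condition (smulHom F r)) V t)
    rw [map_zero, mul_comm b, mul_smul, res_smul, res_smul, ← ht hVU,
      ← Scheme.Modules.Hom.app_smul, ← Scheme.Modules.Hom.app_smul, ores_ores]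
    have h5 := smulHom_app' F r V (ores hVU b • t)
    rw [← h5]
    have h6 : (cokernel.π (smulHom F r)).app V ((smulHom F r).app V (ores hVU b • t)) = 0 :=
      congr(Scheme.Modules.Hom.app $(cokernel.condition (smulHom F r)) V (ores hVU b • t))
    exact h6

end

lemma isIso_cokernelπ_of_eq_zero {C : Type*} [Category C] [HasZeroMorphisms C] {A B : C} {f : A ⟶ B}
    [HasCokernel f] (h : f = 0) : IsIso (cokernel.π f) := by
  subst h
  infer_instance

/-- The short exact sequence `0 ⟶ F ⟶ F ⟶ F / r F ⟶ 0`, when `r` acts injectively. -/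
lemma kernel_iso {F G : X.Modules} (φ : F ⟶ G) [Mono φ] : Nonempty (F ≅ kernel (cokernel.π φ)) :=
  ⟨(seq_shortExact φ).fIsKernel.conePointUniqueUpToIso (limit.isLimit _)⟩

section Closed

lemma mem_ker (j : Z ⟶ X) {r : Γ(X, ⊤)}
    (hj : ∀ U : X.affineOpens, j.ker.ideal U = Ideal.span {ores (le_top : U.1 ≤ ⊤) r})
    (U : X.affineOpens) : ores (le_top : U.1 ≤ ⊤) r ∈ j.ker.ideal U := by
  rw [hj]; exact Ideal.mem_span_singleton_self _

variable (j : Z ⟶ X) [IsClosedImmersion j] {r : Γ(X, ⊤)}
    (hj : ∀ U : X.affineOpens, j.ker.ideal U = Ideal.span {ores (le_top : U.1 ≤ ⊤) r})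

include hj

/-- `j^*(F / r F) ≅ j^* F`. -/
lemma isIso_pullback_π (F : X.Modules) :
    IsIso ((Scheme.Modules.pullback j).map (cokernel.π (smulHom F r))) := by
  have : PreservesColimitsOfSize.{0, 0} (Scheme.Modules.pullback j) :=
    (Scheme.Modules.pullbackPushforwardAdjunction j).leftAdjoint_preservesColimits
  have h0 := pullback_smulHom j (mem_ker j hj) F
  have h1 : IsIso (cokernel.π ((Scheme.Modules.pullback j).map (smulHom F r))) :=
    isIso_cokernelπ_of_eq_zero h0
  have h2 : (Scheme.Modules.pullback j).map (cokernel.π (smulHom F r)) =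
      cokernel.π ((Scheme.Modules.pullback j).map (smulHom F r)) ≫
        (PreservesCokernel.iso (Scheme.Modules.pullback j) (smulHom F r)).inv := by
    rw [Iso.eq_comp_inv]
    exact PreservesCokernel.π_iso_hom _ _
  rw [h2]
  infer_instance

/-- The unit `F / r F ⟶ j_* j^* (F / r F)` is an isomorphism. -/
lemma isIso_unit_cokernel (F : X.Modules) :
    IsIso ((Scheme.Modules.pullbackPushforwardAdjunction j).unit.app (cokernel (smulHom F r))) :=
  (kills_cokernel hj F).isIso_unit j

/-- `H^n(Z, j^* F) = 0` implies `H^n(X, F / r F) = 0`. -/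
theorem subsingleton_HH_cokernel (F : X.Modules) (n : ℕ)
    (hn : Subsingleton (Coh.HH Z ((Scheme.Modules.pullback j).obj F) n)) :
    Subsingleton (Coh.HH X (cokernel (smulHom F r)) n) := by
  have h1 := isIso_pullback_π j hj F
  have h2 := isIso_unit_cokernel j hj F
  have h3 := subsingleton_HH_of_iso (@asIso _ _ _ _ _ h1) n hn
  have h4 := subsingleton_HH_pushforward j _ n h3
  exact subsingleton_HH_of_iso (@asIso _ _ _ _ ((Scheme.Modules.pullbackPushforwardAdjunction j).unit.app
      (cokernel (smulHom F r))) h2).symm n h4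

/-- `H^n(Z, j^* F) = 0` implies that `r` is surjective on `H^n(X, F)`. -/
theorem smul_surjective (F : X.Modules) [Mono (smulHom F r)] (n : ℕ)
    (hn : Subsingleton (Coh.HH Z ((Scheme.Modules.pullback j).obj F) n)) (x : Coh.HH X F n) :
    ∃ y : Coh.HH X F n, (show Coh.Γtop X from r) • y = x := by
  have h1 := subsingleton_HH_cokernel j hj F n hn
  have h2 := VarietyA.EulerLES.exact₂ (seq (smulHom F r)) (seq_shortExact (smulHom F r)) n
  obtain ⟨y, hy⟩ := (h2 x).1 (h1.elim _ _)
  exact ⟨y, hy⟩

/-- If `H^1(X, F) = 0` then `Γ(X, F) ⟶ Γ(Z, j^* F)` is surjective. -/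
theorem exists_lift (F : X.Modules) [Mono (smulHom F r)] (h1 : Subsingleton (Coh.HH X F 1))
    (s : Γ((Scheme.Modules.pullback j).obj F, ⊤)) : ∃ t : Γ(F, ⊤), pullTop j t = s := by
  have hu := isIso_unit_cokernel j hj F
  have hπ := isIso_pullback_π j hj F
  obtain ⟨e⟩ := kernel_iso (smulHom F r)
  have hsurj : Function.Surjective ((cokernel.π (smulHom F r)).app ⊤) :=
    CohqA.H1Lift.app_top_surjective_of_H1 _ (by
      intro U q x hx
      obtain ⟨V, hV, t, hxV, ht⟩ := Groth.Agent.Dcoh.Restrict.exists_local_preimage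
        (cokernel.π (smulHom F r)) U q x hx
      exact ⟨V, hV, t, hxV, ht⟩) (subsingleton_HH_of_iso e 1 h1)
  -- transport `s` to `F / r F`
  obtain ⟨q, hq⟩ : ∃ q : Γ(cokernel (smulHom F r), ⊤),
      ((Scheme.Modules.pullbackPushforwardAdjunction j).unit.app (cokernel (smulHom F r))).app ⊤ q =
        ((Scheme.Modules.pushforward j).map ((Scheme.Modules.pullback j).map
          (cokernel.π (smulHom F r)))).app ⊤ s := by
    exact (ConcreteCategory.bijective_of_isIso (((Scheme.Modules.pullbackPushforwardAdjunction j).unit.app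
      (cokernel (smulHom F r))).app ⊤)).2 _
  obtain ⟨t, rfl⟩ := hsurj q
  refine ⟨t, ?_⟩
  have h3 : IsIso ((Scheme.Modules.pushforward j).map ((Scheme.Modules.pullback j).map
          (cokernel.π (smulHom F r)))) := inferInstance
  apply (ConcreteCategory.bijective_of_isIso (((Scheme.Modules.pushforward j).map
    ((Scheme.Modules.pullback j).map (cokernel.π (smulHom F r)))).app ⊤)).1
  rw [← hq]
  exact (congr(Scheme.Modules.Hom.app $((Scheme.Modules.pullbackPushforwardAdjunction j).unit.naturality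
    (cokernel.π (smulHom F r))) ⊤ t)).symm

end Closed

end Groth.Agent.Sga7.H543.CutSec
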