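import Groth.Agent.UnramA.FlatUnramAt
import Groth.Agent.Sga3.H826.SmSection
import Mathlib.RingTheory.Unramified.LocalRing

/-!
# Sections through reduced rational points of the closed fibre

`R` a henselian local noetherian ring, `f : W ⟶ Spec R` flat and locally of finite type, `t` a rational point of the
closed fibre with `m_w = m_R O_w`.  Then `t` lifts to a section of `f`.
-/

set_option autoImplicit false
universe u

open CategoryTheory CategoryTheory.Limits AlgebraicGeometry Opposite TopologicalSpace

namespace Groth.Agent.Sga7.H543.EtPoint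

open IsLocalRing

lemma residueFieldMap_surjective_of_stalkMap {X Y : Scheme.{u}} (g : X ⟶ Y) (z : X)
    (h : Function.Surjective (g.stalkMap z).hom) : Function.Surjective (g.residueFieldMap z).hom := by
  intro a
  obtain ⟨b, rfl⟩ := X.residue_surjective z a
  obtain ⟨c, rfl⟩ := h b
  refine ⟨Y.residue (g z) c, ?_⟩
  exact ConcreteCategory.congr_hom (Scheme.residue_residueFieldMap g z) c

variable {R : Type u} [CommRing R]

/-- The residue field extension at a rational point is trivial. -/
theorem residueFieldMap_surjective [IsLocalRing R] {W : Scheme.{u}} (f : W ⟶ Spec (CommRingCat.of R))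
    (t : Spec (CommRingCat.of (ResidueField R)) ⟶ W)
    (ht : t ≫ f = Spec.map (CommRingCat.ofHom (residue R)))
    (z : Spec (CommRingCat.of (ResidueField R))) :
    Function.Surjective (f.residueFieldMap (t z)).hom := by
  have h1 : Function.Surjective ((t ≫ f).residueFieldMap z).hom := by
    apply residueFieldMap_surjective_of_stalkMap
    rw [ht]
    have : IsClosedImmersion (Spec.map (CommRingCat.ofHom (residue R))) :=
      IsClosedImmersion.spec_of_surjective _ residue_surjective
    exact (Spec.map (CommRingCat.ofHom (residue R))).stalkMap_surjective z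
  intro a
  obtain ⟨b, hb⟩ := h1 ((t.residueFieldMap z).hom a)
  refine ⟨b, ?_⟩
  have h2 := ConcreteCategory.congr_hom (Scheme.residueFieldMap_comp t f z) b
  exact (t.residueFieldMap z).hom.injective (h2.symm.trans hb)

/-- Unramifiedness at a rational point. -/
theorem formallyUnramified_stalkMap {W S : Scheme.{u}} (f : W ⟶ S) [LocallyOfFiniteType f] (w : W)
    (hres : Function.Surjective (f.residueFieldMap w).hom)
    (hmax : (maximalIdeal (S.presheaf.stalk (f w))).map (f.stalkMap w).hom =
      maximalIdeal (W.presheaf.stalk w)) : (f.stalkMap w).hom.FormallyUnramified := by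
  have h1 : (f.stalkMap w).hom.EssFiniteType := LocallyOfFiniteType.stalkMap f w
  algebraize [(f.stalkMap w).hom]
  have : IsLocalHom (algebraMap (S.presheaf.stalk (f w)) (W.presheaf.stalk w)) :=
    inferInstanceAs (IsLocalHom (f.stalkMap w).hom)
  have h2 : Algebra.IsSeparable (ResidueField (S.presheaf.stalk (f w)))
      (ResidueField (W.presheaf.stalk w)) := by
    have h3 : Function.Surjective (algebraMap (ResidueField (S.presheaf.stalk (f w)))
        (ResidueField (W.presheaf.stalk w))) := hres
    refine ⟨fun a => ?_⟩
    obtain ⟨b, rfl⟩ := h3 a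
    exact isSeparable_algebraMap b
  exact Algebra.FormallyUnramified.of_map_maximalIdeal hmax

/-- Sections through reduced rational points of the closed fibre. -/
theorem exists_section [HenselianLocalRing R] [IsNoetherianRing R] {W : Scheme.{u}}
    (f : W ⟶ Spec (CommRingCat.of R)) [LocallyOfFiniteType f] [Flat f]
    (t : Spec (CommRingCat.of (ResidueField R)) ⟶ W)
    (ht : t ≫ f = Spec.map (CommRingCat.ofHom (residue R)))
    (hmax : (maximalIdeal ((Spec (CommRingCat.of R)).presheaf.stalk
      (f (t (closedPoint (ResidueField R)))))).map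
        (f.stalkMap (t (closedPoint (ResidueField R)))).hom =
      maximalIdeal (W.presheaf.stalk (t (closedPoint (ResidueField R))))) :
    ∃ a : Spec (CommRingCat.of R) ⟶ W, a ≫ f = 𝟙 _ ∧
      Spec.map (CommRingCat.ofHom (residue R)) ≫ a = t := by
  have hfp : LocallyOfFinitePresentation f := inferInstance
  obtain ⟨U, hU, hUe⟩ := (Groth.Agent.UnramA.FlatUnramAt.etale_nhd_iff_flat_and_formallyUnramified f
    (t (closedPoint (ResidueField R)))).2 ⟨Flat.stalkMap f _,
      formallyUnramified_stalkMap f _ (residueFieldMap_surjective f t ht _) hmax⟩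
  have hr : Set.range t ⊆ Set.range U.ι := by
    rw [Scheme.Opens.range_ι]
    rintro _ ⟨z, rfl⟩
    rwa [show z = closedPoint (ResidueField R) from
      Subsingleton.elim (α := PrimeSpectrum (ResidueField R)) _ _]
  obtain ⟨a, ha, ha'⟩ := Groth.Agent.Sga3.H826.SmSection.exists_lift (U.ι ≫ f)
    (IsOpenImmersion.lift U.ι t hr) (by rw [IsOpenImmersion.lift_fac_assoc, ht])
  refine ⟨a ≫ U.ι, by rw [Category.assoc, ha], ?_⟩
  rw [← Category.assoc, ha', IsOpenImmersion.lift_fac]

end Groth.Agent.Sga7.H543.EtPoint
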