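import Groth.Agent.Sga7.H543.SpecFib
import Groth.Agent.Fga.RelCart

/-!
# Regularity along the closed fibre

`R` a discrete valuation ring, `p : X ⟶ Spec R` flat, `X` locally noetherian, `j : Z ⟶ X` its closed fibre.

* `flat_of_germ`: flatness over a discrete valuation ring, by stalks;
* `eff_of_comap`: an ideal with principal stalks whose restriction to `Z` is effective Cartier is effective
  Cartier at the points of `Z`;
* `eq_univ_of_range_subset`: an open subset of a proper `X` containing the closed fibre is everything;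
* `isEff_and_flat`.
-/

set_option autoImplicit false
universe u

open CategoryTheory CategoryTheory.Limits AlgebraicGeometry Opposite TopologicalSpace

namespace Groth.Agent.Sga7.H543.RegFib

open Groth.Agent.Fdesc.LocGen Groth.Agent.Divis.EffCartier Groth.Agent.Divis.CartierBasic
open Groth.Agent.Divis.CartierStalk Groth.Agent.Sga7.H543.SpecFib Groth.Agent.Sga7.H543.Van
open IsLocalRing

section Alg

variable {A B : Type*} [CommRing A] [CommRing B] (φ : A →+* B) {π : A}

/-- If `a` is regular modulo `π` and `π` is regular, `a` is regular (noetherian local ring). -/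
lemma mem_nonZeroDivisors_of_quot [IsLocalRing A] [IsNoetherianRing A] (hπ : π ∈ nonZeroDivisors A)
    (hm : π ∈ maximalIdeal A) (hker : ∀ x, φ x = 0 → π ∣ x) {a : A}
    (ha : φ a ∈ nonZeroDivisors B) : a ∈ nonZeroDivisors A := by
  rw [mem_nonZeroDivisors_iff_right]
  intro b hb
  have key : ∀ n : ℕ, ∃ c, b = π ^ n * c ∧ c * a = 0 := by
    intro n
    induction n with
    | zero => exact ⟨b, by simp, hb⟩
    | succ n ih =>
      obtain ⟨c, hc, hc'⟩ := ih
      have h1 : φ c * φ a = 0 := by rw [← map_mul, hc', map_zero]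
      obtain ⟨d, rfl⟩ := hker c ((mul_right_mem_nonZeroDivisors_eq_zero_iff ha).1 h1)
      refine ⟨d, by rw [hc]; ring, ?_⟩
      rw [mul_assoc] at hc'
      exact (mul_left_mem_nonZeroDivisors_eq_zero_iff hπ).1 hc'
  have h2 : b ∈ (⨅ n : ℕ, maximalIdeal A ^ n) := by
    rw [Ideal.mem_iInf]
    intro n
    obtain ⟨c, hc, -⟩ := key n
    rw [hc]
    exact Ideal.mul_mem_right _ _ (Ideal.pow_mem_pow hm n)
  rwa [Ideal.iInf_pow_eq_bot_of_isLocalRing _ (maximalIdeal.isMaximal A).ne_top] at h2

/-- `π` is regular modulo `a`. -/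
lemma dvd_of_dvd_mul (hπ : π ∈ nonZeroDivisors A) (hφ : φ π = 0) (hker : ∀ x, φ x = 0 → π ∣ x) {a : A}
    (ha : φ a ∈ nonZeroDivisors B) {x : A} (h : a ∣ π * x) : a ∣ x := by
  obtain ⟨y, hy⟩ := h
  have h1 : φ a * φ y = 0 := by rw [← map_mul, ← hy, map_mul, hφ, zero_mul]
  obtain ⟨z, rfl⟩ := hker y ((mul_left_mem_nonZeroDivisors_eq_zero_iff ha).1 h1)
  refine ⟨z, ?_⟩
  have h2 : π * (x - a * z) = 0 := by rw [mul_sub, hy]; ring
  exact sub_eq_zero.1 ((mul_left_mem_nonZeroDivisors_eq_zero_iff hπ).1 h2)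

end Alg

lemma mem_basicOpen_fn {R : Type u} [CommRing R] {X : Scheme.{u}} (p : X ⟶ Spec (CommRingCat.of R)) (t : R)
    (x : X) : x ∈ X.basicOpen (fn p t) ↔ t ∉ (p x).asIdeal := by
  have h1 : p ⁻¹ᵁ ((Spec (CommRingCat.of R)).basicOpen
      ((Scheme.ΓSpecIso (CommRingCat.of R)).inv.hom t)) = X.basicOpen (fn p t) :=
    Scheme.preimage_basicOpen p _
  rw [← h1]
  have h2 := basicOpen_eq_of_affine (R := CommRingCat.of R) t
  change p x ∈ ((Spec (CommRingCat.of R)).basicOpen
      ((Scheme.ΓSpecIso (CommRingCat.of R)).inv.hom t)) ↔ _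
  rw [h2]
  rfl

lemma isUnit_germ_fn_iff {R : Type u} [CommRing R] {X : Scheme.{u}} (p : X ⟶ Spec (CommRingCat.of R)) (t : R)
    (x : X) : IsUnit (X.presheaf.germ ⊤ x trivial (fn p t)) ↔ t ∉ (p x).asIdeal := by
  rw [← mem_basicOpen_fn, Scheme.mem_basicOpen]

/-- Flatness over a discrete valuation ring, by stalks. -/
theorem flat_of_germ {R : Type u} [CommRing R] [IsDomain R] [IsDiscreteValuationRing R] {Y : Scheme.{u}}
    (f : Y ⟶ Spec (CommRingCat.of R)) {π : R} (hπ : Irreducible π)
    (h : ∀ y : Y, Y.presheaf.germ ⊤ y trivial (fn f π) ∈ nonZeroDivisors (Y.presheaf.stalk y)) :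
    Flat f := by
  refine HasRingHomProperty.of_iSup_eq_top (P := @Flat) (fun U : Y.affineOpens => U)
    (iSup_affineOpens_eq_top Y) fun U => ?_
  -- `π` is regular on sections
  have hreg : ores (le_top : U.1 ≤ ⊤) (fn f π) ∈ nonZeroDivisors Γ(Y, U.1) := by
    rw [mem_nonZeroDivisors_iff_right]
    intro b hb
    apply eq_zero_of_germ
    intro y hy
    have h1 := congrArg (Y.presheaf.germ U.1 y hy) hb
    rw [map_mul, map_zero, germ_ores] at h1
    exact (mul_right_mem_nonZeroDivisors_eq_zero_iff (h y)).1 h1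
  let ψ : R →+* Γ(Y, U.1) := (f.appLE ⊤ U.1 le_top).hom.comp (Scheme.ΓSpecIso (CommRingCat.of R)).inv.hom
  have hψ : ψ.Flat := by
    let := ψ.toAlgebra
    change Module.Flat R Γ(Y, U.1)
    rw [Module.Flat.flat_iff_torsion_eq_bot_of_isBezout]
    rw [Submodule.eq_bot_iff]
    rintro b ⟨⟨r, hr⟩, hb⟩
    obtain ⟨n, u, rfl⟩ := IsDiscreteValuationRing.eq_unit_mul_pow_irreducible
      (nonZeroDivisors.ne_zero hr) hπ
    have hb' : ψ (u * π ^ n) * b = 0 := hb
    rw [map_mul, map_pow, mul_assoc] at hb'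
    have h2 : IsUnit (ψ u) := u.isUnit.map ψ
    have h3 : ψ π ^ n * b = 0 := (h2.mul_right_eq_zero).1 hb'
    have h4 : ψ π = ores (le_top : U.1 ≤ ⊤) (fn f π) := rfl
    rw [h4] at h3
    exact (mul_left_mem_nonZeroDivisors_eq_zero_iff (pow_mem hreg n)).1 h3
  have h5 : (f.appLE ⊤ U.1 le_top).hom = ψ.comp (Scheme.ΓSpecIso (CommRingCat.of R)).hom.hom := by
    ext a
    change _ = (f.appLE ⊤ U.1 le_top).hom ((Scheme.ΓSpecIso (CommRingCat.of R)).inv
      ((Scheme.ΓSpecIso (CommRingCat.of R)).hom a))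
    congr 1
    exact (ConcreteCategory.congr_hom (Scheme.ΓSpecIso (CommRingCat.of R)).hom_inv_id a).symm
  rw [h5]
  exact (RingHom.Flat.of_bijective (ConcreteCategory.bijective_of_isIso _)).comp hψ

section Fib

variable {R : Type u} [CommRing R] {X Z : Scheme.{u}}
  {p : X ⟶ Spec (CommRingCat.of R)} {j : Z ⟶ X}

lemma residue_apply [IsLocalRing R] (z : Spec (CommRingCat.of (ResidueField R))) :
    (Spec.map (CommRingCat.ofHom (residue R))) z = closedPoint R := by
  exact PrimeSpectrum.comap_residue R z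

/-- The points of the closed fibre. -/
lemma mem_range_iff [IsLocalRing R] {q : Z ⟶ Spec (CommRingCat.of (ResidueField R))}
    (hj : IsPullback j q p (Spec.map (CommRingCat.ofHom (residue R)))) (x : X) :
    x ∈ Set.range j ↔ p x = closedPoint R := by
  constructor
  · rintro ⟨z, rfl⟩
    rw [← Scheme.Hom.comp_apply, hj.w, Scheme.Hom.comp_apply, residue_apply]
  · intro hx
    have h1 : x ∈ Set.range (pullback.fst p (Spec.map (CommRingCat.ofHom (residue R)))) := by
      rw [Scheme.Pullback.range_fst]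
      exact ⟨closedPoint _, (residue_apply _).trans hx.symm⟩
    obtain ⟨z, rfl⟩ := h1
    refine ⟨hj.isoPullback.inv z, ?_⟩
    rw [← Scheme.Hom.comp_apply, hj.isoPullback_inv_fst]

/-- Over a proper scheme, an open subset containing the closed fibre is everything. -/
theorem eq_univ_of_range_subset [IsLocalRing R] {q : Z ⟶ Spec (CommRingCat.of (ResidueField R))}
    (hj : IsPullback j q p (Spec.map (CommRingCat.ofHom (residue R)))) [IsProper p] {U : Set X}
    (hU : IsOpen U) (h : Set.range j ⊆ U) : U = Set.univ := by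
  by_contra hne
  obtain ⟨c, hc⟩ : ∃ c, c ∉ U := by
    by_contra h'
    push Not at h'
    exact hne (Set.eq_univ_of_forall h')
  have h1 : IsClosed (p '' Uᶜ) := p.isClosedMap _ hU.isClosed_compl
  have h2 : closedPoint R ∈ p '' Uᶜ :=
    (IsLocalRing.specializes_closedPoint (p c)).mem_closed h1 ⟨c, hc, rfl⟩
  obtain ⟨c', hc', h3⟩ := h2
  exact hc' (h ((mem_range_iff hj c').2 h3))

end Fib

section DVR

variable {R : Type u} [CommRing R] [IsDomain R] [IsDiscreteValuationRing R] {X Z : Scheme.{u}}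
  {p : X ⟶ Spec (CommRingCat.of R)} {j : Z ⟶ X} {q : Z ⟶ Spec (CommRingCat.of (ResidueField R))}
  (hj : IsPullback j q p (Spec.map (CommRingCat.ofHom (residue R)))) {π : R} (hπ : Irreducible π)

include hj hπ

/-- Regularity of a principal ideal at the points of the closed fibre. -/
theorem eff_of_comap [IsLocallyNoetherian X] [Flat p] {D : X.IdealSheafData}
    (hD : BlowUp.IsEffCartierIdeal (D.comap j)) (z : Z) {a : X.presheaf.stalk (j z)}
    (ha : stalkIdeal D (j z) = Ideal.span {a}) :
    a ∈ nonZeroDivisors (X.presheaf.stalk (j z)) ∧ ∀ y, X.presheaf.germ ⊤ (j z) trivial (fn p π) * y ∈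
      stalkIdeal D (j z) → y ∈ stalkIdeal D (j z) := by
  have hcl := isClosedImmersion_of_isPullback hj
  have hm := hπ.maximalIdeal_eq
  have hs := stalkIdeal_ker hj hm (j z)
  rw [← ker_stalkMap] at hs
  have hker : ∀ y, (j.stalkMap z).hom y = 0 → X.presheaf.germ ⊤ (j z) trivial (fn p π) ∣ y := by
    intro y hy
    have h1 : y ∈ RingHom.ker (j.stalkMap z).hom := hy
    rw [hs, Ideal.mem_span_singleton] at h1
    exact h1
  have hφ : (j.stalkMap z).hom (X.presheaf.germ ⊤ (j z) trivial (fn p π)) = 0 := by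
    have h1 : X.presheaf.germ ⊤ (j z) trivial (fn p π) ∈ RingHom.ker (j.stalkMap z).hom := by
      rw [hs]
      exact Ideal.mem_span_singleton_self _
    exact h1
  have hreg := germ_fn_mem_nonZeroDivisors p hπ.ne_zero (j z)
  have hmem : X.presheaf.germ ⊤ (j z) trivial (fn p π) ∈ maximalIdeal (X.presheaf.stalk (j z)) := by
    rw [mem_maximalIdeal, mem_nonunits_iff]
    intro h
    have h1 := h.map (j.stalkMap z).hom
    rw [hφ] at h1
    exact not_isUnit_zero h1
  obtain ⟨g, hg, h1⟩ := exists_stalkIdeal_eq_span hD z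
  rw [stalkIdeal_comap, ha, Ideal.map_span, Set.image_singleton] at h1
  have hreg' : (j.stalkMap z).hom a ∈ nonZeroDivisors (Z.presheaf.stalk z) :=
    nonZeroDivisor_of_span_eq hg h1
  have : IsNoetherianRing (X.presheaf.stalk (j z)) := inferInstance
  refine ⟨mem_nonZeroDivisors_of_quot (j.stalkMap z).hom hreg hmem hker hreg', fun y hy => ?_⟩
  rw [ha, Ideal.mem_span_singleton] at hy ⊢
  exact dvd_of_dvd_mul (j.stalkMap z).hom hreg hφ hker hreg' hy

/-- A locally principal ideal on a proper flat scheme whose restriction to the closed fibre is effective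
Cartier is effective Cartier, with flat quotient. -/
theorem isEff_and_flat [IsLocallyNoetherian X] [Flat p] [IsProper p] {D : X.IdealSheafData}
    (hD : BlowUp.IsEffCartierIdeal (D.comap j))
    (ha : ∀ x, ∃ a, stalkIdeal D x = Ideal.span {a}) :
    BlowUp.IsEffCartierIdeal D ∧ Flat (D.subschemeι ≫ p) := by
  choose a ha using ha
  constructor
  · have h1 : {x | Groth.Agent.Fga.RelCart.Eff D x} = Set.univ := by
      apply eq_univ_of_range_subset hj (Groth.Agent.Fga.RelCart.isOpen_eff D)
      rintro _ ⟨z, rfl⟩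
      exact ⟨a (j z), (eff_of_comap hj hπ hD z (ha _)).1, ha _⟩
    rw [isEffCartierIdeal_iff_stalkIdeal]
    intro x
    have h2 : x ∈ {x | Groth.Agent.Fga.RelCart.Eff D x} := h1 ▸ Set.mem_univ x
    exact h2
  · apply flat_of_germ _ hπ
    intro d
    have hgerm : D.subscheme.presheaf.germ ⊤ d trivial (fn (D.subschemeι ≫ p) π) =
        (D.subschemeι.stalkMap d).hom (X.presheaf.germ ⊤ (D.subschemeι d) trivial (fn p π)) := by
      symm
      exact Scheme.Hom.germ_stalkMap_apply D.subschemeι ⊤ d trivial (fn p π)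
    rw [hgerm]
    by_cases hx : D.subschemeι d ∈ Set.range j
    · obtain ⟨z, hz⟩ := hx
      rw [mem_nonZeroDivisors_iff_right]
      intro b hb
      obtain ⟨c, rfl⟩ := stalkMap_subschemeι_surjective D d b
      rw [← map_mul, ← RingHom.mem_ker, ker_stalkMap_subschemeι, mul_comm] at hb
      rw [← RingHom.mem_ker, ker_stalkMap_subschemeι]
      have key : ∀ (x : X) (_ : j z = x) (c : X.presheaf.stalk x),
          X.presheaf.germ ⊤ x trivial (fn p π) * c ∈ stalkIdeal D x → c ∈ stalkIdeal D x := by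
        rintro x rfl c hc
        exact (eff_of_comap hj hπ hD z (ha _)).2 c hc
      exact key _ hz c hb
    · have h1 : IsUnit (X.presheaf.germ ⊤ (D.subschemeι d) trivial (fn p π)) := by
        rw [isUnit_germ_fn_iff]
        intro h2
        apply hx
        rw [mem_range_iff hj]
        apply PrimeSpectrum.ext
        symm
        apply (maximalIdeal.isMaximal R).eq_of_le (p (D.subschemeι d)).isPrime.ne_top
        rw [hπ.maximalIdeal_eq, Ideal.span_singleton_le_iff_mem]
        exact h2
      exact (h1.map _).mem_nonZeroDivisors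

end DVR

end Groth.Agent.Sga7.H543.RegFib
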