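import Groth.Agent.Sga7.H543.RegFib

/-!
# Stalks of the ideals of sections along the closed fibre

`R` local, `p : X ⟶ Spec R` separated, `y : Spec R ⟶ X` a section.

* `isOpen_stalkIdeal_le`: on a locally noetherian scheme the locus where `I ≤ J` is open;
* `stalkIdeal_ker_sup`: `m_x = I_y + (π)` at the closed point `x` of the section;
* `stalkIdeal_ker_eq_top`: `I_y = (1)` at the other points of the closed fibre.
-/

set_option autoImplicit false
universe u

open CategoryTheory CategoryTheory.Limits AlgebraicGeometry Opposite TopologicalSpace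

namespace Groth.Agent.Sga7.H543.SecStalk

open Groth.Agent.Fdesc.LocGen Groth.Agent.Divis.EffCartier Groth.Agent.Divis.CartierBasic
open Groth.Agent.Divis.CartierStalk Groth.Agent.Sga7.H543.SpecFib Groth.Agent.Sga7.H543.Van
open Groth.Agent.Sga7.H543.RegFib
open IsLocalRing

/-- The locus where `I ≤ J` is open. -/
theorem isOpen_stalkIdeal_le {X : Scheme.{u}} [IsLocallyNoetherian X] (I J : X.IdealSheafData) :
    IsOpen {x | stalkIdeal I x ≤ stalkIdeal J x} := by
  rw [isOpen_iff_forall_mem_open]
  intro x hx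
  obtain ⟨U, hxU⟩ := exists_affine x
  have hnoeth : IsNoetherianRing Γ(X, U.1) := IsLocallyNoetherian.component_noetherian U
  let := X.presheaf.algebra_section_stalk (⟨x, hxU⟩ : U.1)
  have hloc : IsLocalization.AtPrime (X.presheaf.stalk x) (U.2.primeIdealOf ⟨x, hxU⟩).asIdeal :=
    U.2.isLocalization_stalk ⟨x, hxU⟩
  have hx' : (I.ideal U).map (algebraMap Γ(X, U.1) (X.presheaf.stalk x)) ≤
      (J.ideal U).map (algebraMap Γ(X, U.1) (X.presheaf.stalk x)) := by
    have h1 : stalkIdeal I x ≤ stalkIdeal J x := hx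
    rw [stalkIdeal_eq I U hxU, stalkIdeal_eq J U hxU] at h1
    exact h1
  -- one element
  have h1 : ∀ g ∈ I.ideal U, ∃ s ∈ (U.2.primeIdealOf ⟨x, hxU⟩).asIdeal.primeCompl,
      s * g ∈ J.ideal U := by
    intro g hg
    have h2 := hx' (Ideal.mem_map_of_mem _ hg)
    rw [IsLocalization.algebraMap_mem_map_algebraMap_iff
      (U.2.primeIdealOf ⟨x, hxU⟩).asIdeal.primeCompl] at h2
    obtain ⟨s, hs, h3⟩ := h2
    exact ⟨s, hs, h3⟩
  obtain ⟨G, hG⟩ := (isNoetherianRing_iff_ideal_fg _).1 hnoeth (I.ideal U)
  obtain ⟨s, hs, hsG⟩ : ∃ s ∈ (U.2.primeIdealOf ⟨x, hxU⟩).asIdeal.primeCompl,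
      ∀ g ∈ G, s * g ∈ J.ideal U := by
    classical
    have hGI : ∀ g ∈ G, g ∈ I.ideal U := fun g hg => hG ▸ Submodule.subset_span hg
    clear hG
    induction G using Finset.induction_on with
    | empty => exact ⟨1, Submonoid.one_mem _, by simp⟩
    | insert a G ha ih =>
      obtain ⟨s, hs, h2⟩ := ih fun g hg => hGI g (Finset.mem_insert_of_mem hg)
      obtain ⟨t, ht, h3⟩ := h1 a (hGI a (Finset.mem_insert_self _ _))
      refine ⟨s * t, Submonoid.mul_mem _ hs ht, fun g hg => ?_⟩
      rcases Finset.mem_insert.1 hg with rfl | hg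
      · rw [mul_assoc]; exact Ideal.mul_mem_left _ _ h3
      · rw [mul_comm s, mul_assoc]; exact Ideal.mul_mem_left _ _ (h2 g hg)
  refine ⟨X.basicOpen s, ?_, (X.basicOpen s).isOpen, ?_⟩
  · intro y hy
    have hyU : y ∈ U.1 := X.basicOpen_le s hy
    have hu : IsUnit (X.presheaf.germ U.1 y hyU s) := (Scheme.mem_basicOpen _ _ _ hyU).1 hy
    change stalkIdeal I y ≤ stalkIdeal J y
    rw [stalkIdeal_eq I U hyU, stalkIdeal_eq J U hyU, ← hG, Ideal.map_span, Ideal.span_le]
    rintro _ ⟨g, hg, rfl⟩
    have h2 := Ideal.mem_map_of_mem (X.presheaf.germ U.1 y hyU).hom (hsG g hg)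
    rw [map_mul] at h2
    exact (Ideal.unit_mul_mem_iff_mem _ hu).1 h2
  · rw [SetLike.mem_coe, Scheme.mem_basicOpen _ _ _ hxU]
    exact IsLocalization.map_units (X.presheaf.stalk x)
      (⟨s, hs⟩ : (U.2.primeIdealOf ⟨x, hxU⟩).asIdeal.primeCompl)

theorem stalkIdeal_prod {X : Scheme.{u}} {ι : Type*} (s : Finset ι) (D : ι → X.IdealSheafData) (x : X) :
    stalkIdeal (∏ i ∈ s, D i) x = ∏ i ∈ s, stalkIdeal (D i) x := by
  classical
  induction s using Finset.induction_on with
  | empty =>
    rw [Finset.prod_empty, Finset.prod_empty]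
    exact (stalkIdeal_top x).trans Ideal.one_eq_top.symm
  | insert a s ha ih => rw [Finset.prod_insert ha, Finset.prod_insert ha, stalkIdeal_mul, ih]

/-- The maximal ideal of the local ring of `Spec R` at the closed point. -/
theorem maximalIdeal_stalk_Spec {R : Type u} [CommRing R] [IsLocalRing R] {π : R}
    (hπ : maximalIdeal R = Ideal.span {π}) :
    maximalIdeal ((Spec (CommRingCat.of R)).presheaf.stalk (closedPoint R)) =
      Ideal.span {(Spec (CommRingCat.of R)).presheaf.germ ⊤ (closedPoint R) trivial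
        ((Scheme.ΓSpecIso (CommRingCat.of R)).inv.hom π)} := by
  let k : Algebra R ((Spec (CommRingCat.of R)).presheaf.stalk (closedPoint R)) :=
    StructureSheaf.stalkAlgebra R (closedPoint R)
  have : IsLocalization.AtPrime ((Spec (CommRingCat.of R)).presheaf.stalk (closedPoint R))
      (closedPoint R).asIdeal :=
    StructureSheaf.IsLocalization.to_stalk R (closedPoint R)
  have h1 : (closedPoint R).asIdeal = Ideal.span {π} := hπ
  rw [← IsLocalization.AtPrime.map_eq_maximalIdeal (closedPoint R).asIdeal, h1]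
  refine (Ideal.map_span _ _).trans ?_
  rw [Set.image_singleton]
  rfl

section

variable {R : Type u} [CommRing R] [IsLocalRing R] {X : Scheme.{u}}
  {p : X ⟶ Spec (CommRingCat.of R)} [IsSeparated p] {y : Spec (CommRingCat.of R) ⟶ X}

omit [IsLocalRing R] in
lemma isClosedImmersion_section (hy : y ≫ p = 𝟙 _) : IsClosedImmersion y := by
  have : IsClosedImmersion (y ≫ p) := by rw [hy]; infer_instance
  exact IsClosedImmersion.of_comp y p

/-- Off the closed point, the ideal of the section is trivial on the closed fibre. -/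
theorem stalkIdeal_ker_eq_top (hy : y ≫ p = 𝟙 _) {x : X} (hx : p x = closedPoint R)
    (hne : y (closedPoint R) ≠ x) : stalkIdeal y.ker x = ⊤ := by
  have := isClosedImmersion_section hy
  rw [← notMem_support_iff_stalkIdeal_eq_top]
  intro h
  have h1 : x ∈ (y.ker.support : Set X) := h
  rw [Scheme.Hom.support_ker, y.isClosedEmbedding.isClosed_range.closure_eq] at h1
  obtain ⟨s, rfl⟩ := h1
  apply hne
  rw [← Scheme.Hom.comp_apply, hy] at hx
  have h2 : s = closedPoint R := hx
  rw [h2]

/-- `m_x = I_y + m_R O_x` at the closed point of the section. -/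
theorem stalkIdeal_ker_sup (hy : y ≫ p = 𝟙 _) {π : R} (hπ : maximalIdeal R = Ideal.span {π}) :
    stalkIdeal y.ker (y (closedPoint R)) ⊔
      Ideal.span {X.presheaf.germ ⊤ (y (closedPoint R)) trivial (fn p π)} =
        maximalIdeal (X.presheaf.stalk (y (closedPoint R))) := by
  have := isClosedImmersion_section hy
  rw [← ker_stalkMap]
  have hsurj := y.stalkMap_surjective (closedPoint R)
  apply le_antisymm
  · refine sup_le (IsLocalRing.le_maximalIdeal (RingHom.ker_ne_top _)) ?_
    rw [Ideal.span_singleton_le_iff_mem, mem_maximalIdeal, mem_nonunits_iff, isUnit_germ_fn_iff,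
      not_not, ← Scheme.Hom.comp_apply, hy]
    change π ∈ maximalIdeal R
    rw [hπ]
    exact Ideal.mem_span_singleton_self π
  · intro a ha
    -- the image of `a` in the local ring of `Spec R` at the closed point is a multiple of `π`
    have h1 : (y.stalkMap (closedPoint R)).hom a ∈
        maximalIdeal ((Spec (CommRingCat.of R)).presheaf.stalk (closedPoint R)) := by
      rw [mem_maximalIdeal, mem_nonunits_iff] at ha ⊢
      exact fun h => ha (IsLocalHom.map_nonunit (f := (y.stalkMap (closedPoint R)).hom) a h)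
    have h2 : maximalIdeal ((Spec (CommRingCat.of R)).presheaf.stalk (closedPoint R)) =
        Ideal.span {(y.stalkMap (closedPoint R)).hom
          (X.presheaf.germ ⊤ (y (closedPoint R)) trivial (fn p π))} := by
      rw [maximalIdeal_stalk_Spec hπ]
      congr 2
      symm
      refine (Scheme.Hom.germ_stalkMap_apply y ⊤ (closedPoint R) trivial (fn p π)).trans ?_
      have h3 : y.app ⊤ (fn p π) = (Scheme.ΓSpecIso (CommRingCat.of R)).inv.hom π := by
        have h4 : (y ≫ p).appTop = 𝟙 _ := by rw [hy]; rfl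
        rw [Scheme.Hom.comp_appTop] at h4
        exact ConcreteCategory.congr_hom h4 ((Scheme.ΓSpecIso (CommRingCat.of R)).inv.hom π)
      rw [h3]
      rfl
    rw [h2, Ideal.mem_span_singleton'] at h1
    obtain ⟨b, hb⟩ := h1
    obtain ⟨b', rfl⟩ := hsurj b
    rw [← map_mul] at hb
    have h4 : a - b' * X.presheaf.germ ⊤ (y (closedPoint R)) trivial (fn p π) ∈
        RingHom.ker (y.stalkMap (closedPoint R)).hom := by
      rw [RingHom.mem_ker, map_sub, sub_eq_zero]
      exact hb.symm
    have h5 : a = (a - b' * X.presheaf.germ ⊤ (y (closedPoint R)) trivial (fn p π)) +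
        b' * X.presheaf.germ ⊤ (y (closedPoint R)) trivial (fn p π) := by ring
    rw [h5]
    exact Submodule.add_mem_sup h4 (Ideal.mul_mem_left _ _ (Ideal.mem_span_singleton_self _))

end

end Groth.Agent.Sga7.H543.SecStalk
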