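import Groth.Agent.Models.H38.SecDiv
import Groth.Agent.Fdesc.LocGenPullback
import Groth.Agent.Divis.CartierStalk

/-!
# The ideal of vanishing of a section of an invertible module

`IsVan t D`: `D` is the ideal sheaf generated by the local coefficients of the section `t` of the invertible
module `M` (no regularity assumption).

* `IsVan.stalk`, `IsVan.ideal`, `IsVan.unique`, `exists_isVan`, `IsVan.pull`, `IsVan.app`;
* `IsVan.isInverseOf`: if `D` is effective Cartier then `M ⊗ I_D ≅ O_X`;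
* `exists_canonical`: `O_X(D)` has a section with ideal of vanishing `D`.
-/

set_option autoImplicit false
universe u

open CategoryTheory CategoryTheory.Limits AlgebraicGeometry Opposite TopologicalSpace

namespace Groth.Agent.Sga7.H543.Van

open Groth.Agent.Fdesc.LocGen Groth.Agent.Picfga.LineHom Groth.Agent.Dix.IdealModCartier
open Groth.Agent.Divis.EffCartier Groth.Agent.Divis.CartierBasic Groth.Agent.Divis.CartierStalk
open Groth.Agent.Dix.IdealModSec

variable {X Y : Scheme.{u}}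

lemma germ_ores {U V : X.Opens} (h : V ≤ U) {x : X} (hx : x ∈ V) (a : Γ(X, U)) :
    X.presheaf.germ V x hx (ores h a) = X.presheaf.germ U x (h hx) a :=
  TopCat.Presheaf.germ_res_apply X.presheaf (homOfLE h) x hx a

/-- `D` is the ideal of vanishing of the section `t`. -/
def IsVan {M : X.Modules} (t : Γ(M, ⊤)) (D : X.IdealSheafData) : Prop :=
  ∀ x : X, ∃ (U : X.Opens) (hx : x ∈ U) (e : Γ(M, U)) (a : Γ(X, U)), IsGen e ∧
    res M le_top t = a • e ∧ stalkIdeal D x = Ideal.span {X.presheaf.germ U x hx a}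

lemma span_eq_of_isUnit {A : Type*} [CommRing A] {a b u : A} (hu : IsUnit u) (h : a = b * u) :
    Ideal.span {a} = Ideal.span {b} := by
  rw [h, Ideal.span_singleton_mul_right_unit hu]

/-- The local coefficients of a section in two generators differ by a unit. -/
lemma coeff_unit {M : X.Modules} {t : Γ(M, ⊤)} {U V : X.Opens} {e : Γ(M, U)} {e' : Γ(M, V)}
    (he : IsGen e) (he' : IsGen e') {a : Γ(X, U)} {a' : Γ(X, V)} (ha : res M le_top t = a • e)
    (ha' : res M le_top t = a' • e') {x : X} (hx : x ∈ U) (hx' : x ∈ V) :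
    ∃ c : X.presheaf.stalk x, IsUnit c ∧
      X.presheaf.germ U x hx a = X.presheaf.germ V x hx' a' * c := by
  obtain ⟨c, hc, hc'⟩ := (he.res (inf_le_left : U ⊓ V ≤ U)).exists_unit
    (he'.res (inf_le_right : U ⊓ V ≤ V))
  have h1 := congrArg (res M (inf_le_left : U ⊓ V ≤ U)) ha
  have h2 := congrArg (res M (inf_le_right : U ⊓ V ≤ V)) ha'
  rw [res_res, res_smul] at h1 h2
  rw [h1, hc', smul_smul] at h2
  have h3 := (he.res (inf_le_left : U ⊓ V ≤ U)).ext h2
  refine ⟨X.presheaf.germ (U ⊓ V) x ⟨hx, hx'⟩ c, hc.map _, ?_⟩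
  have h4 := congrArg (X.presheaf.germ (U ⊓ V) x ⟨hx, hx'⟩) h3
  rw [map_mul, germ_ores, germ_ores] at h4
  exact h4

lemma IsVan.stalk {M : X.Modules} {t : Γ(M, ⊤)} {D : X.IdealSheafData} (h : IsVan t D)
    {U : X.Opens} {e : Γ(M, U)} (he : IsGen e) {a : Γ(X, U)} (ha : res M le_top t = a • e)
    {x : X} (hx : x ∈ U) : stalkIdeal D x = Ideal.span {X.presheaf.germ U x hx a} := by
  obtain ⟨V, hxV, e', a', he', ha', h1⟩ := h x
  obtain ⟨c, hc, h2⟩ := coeff_unit he he' ha ha' hx hxV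
  rw [h1, span_eq_of_isUnit hc h2]

lemma IsVan.ideal {M : X.Modules} {t : Γ(M, ⊤)} {D : X.IdealSheafData} (h : IsVan t D)
    (U : X.affineOpens) {e : Γ(M, U.1)} (he : IsGen e) {a : Γ(X, U.1)}
    (ha : res M le_top t = a • e) : D.ideal U = Ideal.span {a} := by
  apply le_antisymm
  · rw [U.2.ideal_le_iff]
    intro x hx
    rw [← stalkIdeal_eq D U hx, h.stalk he ha hx, Ideal.map_span, Set.image_singleton]
  · rw [U.2.ideal_le_iff]
    intro x hx
    rw [← stalkIdeal_eq D U hx, h.stalk he ha hx, Ideal.map_span, Set.image_singleton]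

lemma IsVan.unique {M : X.Modules} {t : Γ(M, ⊤)} {D D' : X.IdealSheafData} (h : IsVan t D)
    (h' : IsVan t D') : D = D' := by
  apply ext_stalkIdeal
  intro x
  obtain ⟨U, hx, e, a, he, ha, h1⟩ := h x
  rw [h1, h'.stalk he ha hx]

/-- A cover by affine opens with generators. -/
lemma exists_affine_isGen {M : X.Modules} (hM : PicF.IsInvertible M) (x : X) :
    ∃ (U : X.affineOpens) (e : Γ(M, U.1)), x ∈ U.1 ∧ IsGen e := by
  obtain ⟨V, e, hx, he⟩ := (isInvertible_iff M).1 hM x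
  obtain ⟨W, hxW, hW⟩ := exists_affine_mem_le V x hx
  exact ⟨W, _, hxW, he.res hW⟩

theorem exists_isVan {M : X.Modules} (hM : PicF.IsInvertible M) (t : Γ(M, ⊤)) :
    ∃ D : X.IdealSheafData, IsVan t D := by
  choose W e hxW he using exists_affine_isGen hM
  have hW : (⨆ x, (W x).1) = ⊤ := top_le_iff.1 fun x _ => Opens.mem_iSup.2 ⟨x, hxW x⟩
  choose a ha using fun x => (he x).exists_eq (res M (le_top : (W x).1 ≤ ⊤) t)
  have hspan : ∀ (x y : X) (V : X.affineOpens) (hi : V.1 ≤ (W x).1) (hj : V.1 ≤ (W y).1),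
      Ideal.span {ores hi (a x)} ≤ Ideal.span {ores hj (a y)} := by
    intro x y V hi hj
    rw [Ideal.span_singleton_le_span_singleton]
    obtain ⟨c, hc⟩ := ((he x).res hi).exists_eq (res M hj (e y))
    have h1 := congrArg (res M hi) (ha x)
    have h2 := congrArg (res M hj) (ha y)
    rw [res_res, res_smul] at h1 h2
    refine ⟨c, ?_⟩
    apply ((he x).res hi).ext
    rw [← h1, h2, hc, smul_smul]
  obtain ⟨D, hD⟩ := Groth.Agent.Divis.CartierData.exists_ideal W hW a
    (fun x y V hi hj => le_antisymm (hspan x y V hi hj) (hspan y x V hj hi))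
  refine ⟨D, fun x => ⟨(W x).1, hxW x, e x, a x, he x, ha x, ?_⟩⟩
  rw [stalkIdeal_eq D (W x) (hxW x), hD x (W x) le_rfl, ores_refl, Ideal.map_span,
    Set.image_singleton]

/-- The ideal of vanishing of an inverse image. -/
lemma IsVan.pull {M : X.Modules} {t : Γ(M, ⊤)} {D : X.IdealSheafData} (h : IsVan t D)
    (f : Y ⟶ X) : IsVan (pullTop f t) (D.comap f) := by
  intro y
  obtain ⟨U, hx, e, a, he, ha, h1⟩ := h (f y)
  refine ⟨f ⁻¹ᵁ U, hx, pullSec f e, f.app U a, he.pullSec f, ?_, ?_⟩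
  · rw [← pullSec_smul, ← ha]
    exact res_pullSec f le_top t
  · rw [stalkIdeal_comap, h1, Ideal.map_span, Set.image_singleton]
    congr 2
    exact Scheme.Hom.germ_stalkMap_apply f U y hx a

lemma IsVan.app {M N : X.Modules} {t : Γ(M, ⊤)} {D : X.IdealSheafData} (h : IsVan t D)
    (φ : M ⟶ N) [IsIso φ] : IsVan (φ.app ⊤ t) D := by
  intro x
  obtain ⟨U, hx, e, a, he, ha, h1⟩ := h x
  refine ⟨U, hx, φ.app U e, a, he.app φ, ?_, h1⟩
  rw [← app_res, ha, Scheme.Modules.Hom.app_smul]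

lemma nonZeroDivisor_of_span_eq {A : Type*} [CommRing A] {a g : A} (hg : g ∈ nonZeroDivisors A)
    (h : Ideal.span {a} = Ideal.span {g}) : a ∈ nonZeroDivisors A := by
  have h1 : a ∈ Ideal.span {g} := h ▸ Ideal.mem_span_singleton_self a
  have h2 : g ∈ Ideal.span {a} := h ▸ Ideal.mem_span_singleton_self g
  rw [Ideal.mem_span_singleton'] at h1 h2
  obtain ⟨u, rfl⟩ := h1
  obtain ⟨v, hv⟩ := h2
  have h3 : (v * u) * g = 1 * g := by rw [one_mul, mul_assoc]; exact hv
  have h4 : v * u = 1 := (mul_cancel_right_mem_nonZeroDivisors hg).1 h3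
  have h5 : IsUnit u := IsUnit.of_mul_eq_one_right v h4
  exact mul_mem h5.mem_nonZeroDivisors hg

lemma eq_zero_of_germ {U : X.Opens} (b : Γ(X, U)) (h : ∀ x (hx : x ∈ U), X.presheaf.germ U x hx b = 0) :
    b = 0 := by
  apply TopCat.Presheaf.section_ext X.sheaf U
  intro x hx
  exact (h x hx).trans (map_zero (X.presheaf.germ U x hx).hom).symm

/-- Regularity of the coefficients from regularity of the ideal. -/
lemma IsVan.mem_nonZeroDivisors {M : X.Modules} {t : Γ(M, ⊤)} {D : X.IdealSheafData} (h : IsVan t D)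
    (hD : BlowUp.IsEffCartierIdeal D) {U : X.Opens} {e : Γ(M, U)} (he : IsGen e) {a : Γ(X, U)}
    (ha : res M le_top t = a • e) : a ∈ nonZeroDivisors Γ(X, U) := by
  rw [mem_nonZeroDivisors_iff_right]
  intro b hb
  apply eq_zero_of_germ
  intro x hx
  obtain ⟨g, hg, h1⟩ := exists_stalkIdeal_eq_span hD x
  have h2 := nonZeroDivisor_of_span_eq hg ((h.stalk he ha hx).symm.trans h1)
  have h3 := congrArg (X.presheaf.germ U x hx) hb
  rw [map_mul, map_zero] at h3
  exact (mul_right_mem_nonZeroDivisors_eq_zero_iff h2).1 h3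

theorem IsVan.isInverseOf {M : X.Modules} (hM : PicF.IsInvertible M) {t : Γ(M, ⊤)}
    {D : X.IdealSheafData} (h : IsVan t D) (hD : BlowUp.IsEffCartierIdeal D) :
    ClSub.IsInverseOf M (ClSub.idealMod D) := by
  obtain ⟨D', h1, h2, h3⟩ := Groth.Agent.Models.H38.SecDiv.exists_divisor hM t
    (fun U e a he ha => h.mem_nonZeroDivisors hD he ha)
  have h4 : IsVan t D' := by
    intro x
    obtain ⟨U, e, hx, he⟩ := exists_affine_isGen hM x
    obtain ⟨a, ha⟩ := he.exists_eq (res M le_top t)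
    refine ⟨U.1, hx, e, a, he, ha, ?_⟩
    rw [stalkIdeal_eq D' U hx, h3 U e a he ha, Ideal.map_span, Set.image_singleton]
  rw [h.unique h4]
  exact h2

/-- `O_X(D)` has a section whose ideal of vanishing is `D`. -/
theorem exists_canonical {N : X.Modules} (hN : PicF.IsInvertible N) {D : X.IdealSheafData}
    (hD : BlowUp.IsEffCartierIdeal D) (h : ClSub.IsInverseOf N (ClSub.idealMod D)) :
    ∃ t : Γ(N, ⊤), IsVan t D := by
  have h0 : ∀ x : X, ∃ (U : X.affineOpens) (e : Γ(N, U.1)) (d : Γ(X, U.1))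
      (s : Γ(ClSub.idealMod D, U.1)), x ∈ U.1 ∧ IsGen e ∧ GenOn D d ∧ val D s = d := by
    intro x
    obtain ⟨U, e, hx, he⟩ := exists_affine_isGen hN x
    obtain ⟨V, d, hxV, hd⟩ := exists_genOn hD x
    obtain ⟨W, hxW, hW⟩ := exists_affine_mem_le (U.1 ⊓ V.1) x ⟨hx, hxV⟩
    have hWU : W.1 ≤ U.1 := hW.trans inf_le_left
    have hWV : W.1 ≤ V.1 := hW.trans inf_le_right
    have hd' := hd.res hWV
    obtain ⟨s, hs⟩ := exists_val_eq D W (a := ores hWV d) (by
      have h1 := (hd' W le_rfl).2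
      rw [ores_refl] at h1
      rw [h1]
      exact Ideal.mem_span_singleton_self _)
    exact ⟨W, res N hWU e, ores hWV d, s, hxW, he.res _, hd', hs⟩
  choose U e d s hx he hd hs using h0
  have hcov : (⨆ x, (U x).1) = ⊤ := top_le_iff.1 fun x _ => Opens.mem_iSup.2 ⟨x, hx x⟩
  have gs : ∀ x, IsGen (s x) := fun x => isGen_of_genOn ((hs x).symm ▸ hd x)
  obtain ⟨φ, hφ⟩ := exists_hom (L := CohB1.tensorMod N (ClSub.idealMod D)) (N := N) hcov
    (e := fun x => tmul (e x) (s x)) (fun x => (he x).tmul (gs x)) (n := fun x => d x • e x)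
    (trans_of_inf (fun x => (he x).tmul (gs x)) (by
      intro x y
      obtain ⟨c, hc⟩ := ((he y).res (inf_le_right : (U x).1 ⊓ (U y).1 ≤ _)).exists_eq
        (res N (inf_le_left : (U x).1 ⊓ (U y).1 ≤ _) (e x))
      obtain ⟨b, hb, hb'⟩ := exists_factor (hd x) (hd y) (inf_le_left : (U x).1 ⊓ (U y).1 ≤ _)
        inf_le_right (hs x) (hs y)
      refine ⟨c * b, ?_, ?_⟩
      · rw [res_tmul, res_tmul, hc, hb, smul_tmul, tmul_smul, smul_smul]
      · rw [res_smul, res_smul, hc, hb', smul_smul, smul_smul]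
        congr 1
        ring))
  obtain ⟨θ⟩ := h
  refine ⟨sec (θ.inv ≫ φ) ⊤, ?_⟩
  intro x
  have g1 : IsGen (sec θ.inv (U x).1) := by
    have h1 := (isIso_iff_isGen θ.inv).1 inferInstance
    have h2 := h1.res (le_top : (U x).1 ≤ ⊤)
    rwa [res_sec] at h2
  obtain ⟨u, hu, hu'⟩ := ((he x).tmul (gs x)).exists_unit g1
  refine ⟨(U x).1, hx x, e x, u * d x, he x, ?_, ?_⟩
  · rw [res_sec, sec_comp, hu', Scheme.Modules.Hom.app_smul, hφ x, smul_smul]
  · have h3 := (hd x (U x) le_rfl).2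
    rw [ores_refl] at h3
    rw [stalkIdeal_eq D (U x) (hx x), h3, Ideal.map_span, Set.image_singleton, map_mul]
    exact (span_eq_of_isUnit (hu.map (X.presheaf.germ (U x).1 x (hx x)).hom) (mul_comm _ _)).symm

end Groth.Agent.Sga7.H543.Van
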