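import Groth.Prelude.Def_Coh
import Groth.Agent.Sga7.H543.Van

/-!
# The closed fibre of a scheme over a local ring with principal maximal ideal

* `ker_ideal`: its ideal is generated by the uniformizer on every affine open;
* `stalkIdeal_ker`.
-/

set_option autoImplicit false
universe u

open CategoryTheory CategoryTheory.Limits AlgebraicGeometry Opposite TopologicalSpace

namespace Groth.Agent.Sga7.H543.SpecFib

open Groth.Agent.Fdesc.LocGen Groth.Agent.Divis.EffCartier Groth.Agent.Divis.CartierBasic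
open Groth.Agent.Divis.CartierStalk
open IsLocalRing

/-- The function on `X` given by an element of the base ring. -/
noncomputable def fn {R : Type u} [CommRing R] {X : Scheme.{u}} (p : X ⟶ Spec (CommRingCat.of R)) (t : R) :
    Γ(X, ⊤) :=
  p.appTop.hom ((Scheme.ΓSpecIso (CommRingCat.of R)).inv.hom t)

lemma fn_eq_toGlobal {R : Type u} [CommRing R] {X : Scheme.{u}} (p : X ⟶ Spec (CommRingCat.of R)) (t : R) :
    fn p t = Coh.toGlobal p t := rfl

lemma fn_mem_nonZeroDivisors {R : Type u} [CommRing R] [IsDomain R] {X : Scheme.{u}}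
    (p : X ⟶ Spec (CommRingCat.of R)) [Flat p] {t : R} (ht : t ≠ 0) (W : X.affineOpens) :
    ores (le_top : W.1 ≤ ⊤) (fn p t) ∈ nonZeroDivisors Γ(X, W.1) := by
  have h1 : (p.appLE ⊤ W.1 le_top).hom.Flat :=
    Scheme.Hom.flat_appLE p (isAffineOpen_top _) W.2 le_top
  have h2 : ((Scheme.ΓSpecIso (CommRingCat.of R)).inv.hom t) ∈
      nonZeroDivisors Γ(Spec (CommRingCat.of R), ⊤) := by
    refine map_mem_nonZeroDivisors_of_flat _ ?_ (mem_nonZeroDivisors_of_ne_zero ht)
    exact RingHom.Flat.of_bijective (ConcreteCategory.bijective_of_isIso _)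
  exact map_mem_nonZeroDivisors_of_flat _ h1 h2

lemma germ_fn_mem_nonZeroDivisors {R : Type u} [CommRing R] [IsDomain R] {X : Scheme.{u}}
    (p : X ⟶ Spec (CommRingCat.of R)) [Flat p] {t : R} (ht : t ≠ 0) (x : X) :
    X.presheaf.germ ⊤ x trivial (fn p t) ∈ nonZeroDivisors (X.presheaf.stalk x) := by
  obtain ⟨U, hxU⟩ := exists_affine x
  let := X.presheaf.algebra_section_stalk (⟨x, hxU⟩ : U.1)
  have := U.2.isLocalization_stalk ⟨x, hxU⟩
  have h1 : X.presheaf.germ U.1 x hxU (ores (le_top : U.1 ≤ ⊤) (fn p t)) ∈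
      nonZeroDivisors (X.presheaf.stalk x) :=
    IsLocalization.map_nonZeroDivisors_le (U.2.primeIdealOf ⟨x, hxU⟩).asIdeal.primeCompl
      (X.presheaf.stalk x) ⟨_, fn_mem_nonZeroDivisors p ht U, rfl⟩
  rwa [Van.germ_ores] at h1

variable {R : Type u} [CommRing R] [IsLocalRing R] {X Z : Scheme.{u}}
  {p : X ⟶ Spec (CommRingCat.of R)} {j : Z ⟶ X} {q : Z ⟶ Spec (CommRingCat.of (ResidueField R))}

instance isClosedImmersion_residue :
    IsClosedImmersion (Spec.map (CommRingCat.ofHom (residue R))) :=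
  IsClosedImmersion.spec_of_surjective _ residue_surjective

lemma isClosedImmersion_of_isPullback
    (hj : IsPullback j q p (Spec.map (CommRingCat.ofHom (residue R)))) : IsClosedImmersion j :=
  MorphismProperty.of_isPullback hj.flip isClosedImmersion_residue

theorem stalkIdeal_ofIdealTop (I : Ideal Γ(X, ⊤)) (x : X) :
    stalkIdeal (Scheme.IdealSheafData.ofIdealTop I) x =
      I.map (X.presheaf.germ ⊤ x trivial).hom := by
  obtain ⟨U, hx⟩ := exists_affine x
  rw [stalkIdeal_eq _ U hx, Scheme.IdealSheafData.ofIdealTop_ideal, Ideal.map_map,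
    ← CommRingCat.hom_comp]
  congr 2
  exact X.presheaf.germ_res (homOfLE le_top) x hx

/-- The ideal of the closed point. -/
lemma ker_residue {π : R} (hπ : maximalIdeal R = Ideal.span {π}) :
    (Spec.map (CommRingCat.ofHom (residue R))).ker = Scheme.IdealSheafData.ofIdealTop
      (Ideal.span {(Scheme.ΓSpecIso (CommRingCat.of R)).inv.hom π}) := by
  rw [Scheme.ker_of_isAffine]
  congr 1
  have h1 : (Spec.map (CommRingCat.ofHom (residue R))).appTop =
      (Scheme.ΓSpecIso (CommRingCat.of R)).hom ≫ CommRingCat.ofHom (residue R) ≫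
        (Scheme.ΓSpecIso (CommRingCat.of (ResidueField R))).inv := by
    rw [Scheme.ΓSpecIso_inv_naturality, Iso.hom_inv_id_assoc]
  have hb1 : Function.Bijective (Scheme.ΓSpecIso (CommRingCat.of R)).hom :=
    ConcreteCategory.bijective_of_isIso _
  have hb2 : Function.Injective (Scheme.ΓSpecIso (CommRingCat.of (ResidueField R))).inv :=
    (ConcreteCategory.bijective_of_isIso _).1
  ext a
  rw [RingHom.mem_ker, h1]
  change (Scheme.ΓSpecIso (CommRingCat.of (ResidueField R))).inv
    (residue R ((Scheme.ΓSpecIso (CommRingCat.of R)).hom a)) = 0 ↔ _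
  rw [map_eq_zero_iff _ hb2, residue_eq_zero_iff, hπ, Ideal.mem_span_singleton',
    Ideal.mem_span_singleton']
  constructor
  · rintro ⟨c, hc⟩
    refine ⟨(Scheme.ΓSpecIso (CommRingCat.of R)).inv c, ?_⟩
    apply hb1.1
    rw [map_mul]
    change (Scheme.ΓSpecIso (CommRingCat.of R)).hom ((Scheme.ΓSpecIso (CommRingCat.of R)).inv c) *
      (Scheme.ΓSpecIso (CommRingCat.of R)).hom ((Scheme.ΓSpecIso (CommRingCat.of R)).inv π) = _
    rw [← hc]
    congr 1
    · exact ConcreteCategory.congr_hom (Scheme.ΓSpecIso (CommRingCat.of R)).inv_hom_id c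
    · exact ConcreteCategory.congr_hom (Scheme.ΓSpecIso (CommRingCat.of R)).inv_hom_id π
  · rintro ⟨c, rfl⟩
    refine ⟨(Scheme.ΓSpecIso (CommRingCat.of R)).hom c, ?_⟩
    rw [map_mul]
    congr 1
    exact (ConcreteCategory.congr_hom (Scheme.ΓSpecIso (CommRingCat.of R)).inv_hom_id π).symm

/-- The ideal of the closed fibre, at stalks. -/
theorem stalkIdeal_ker (hj : IsPullback j q p (Spec.map (CommRingCat.ofHom (residue R)))) {π : R}
    (hπ : maximalIdeal R = Ideal.span {π}) (x : X) :
    stalkIdeal j.ker x = Ideal.span {X.presheaf.germ ⊤ x trivial (fn p π)} := by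
  have h1 : j.ker = (Spec.map (CommRingCat.ofHom (residue R))).ker.comap p := by
    rw [← Scheme.IdealSheafData.ker_fst_of_isClosedImmersion]
    have h2 : j = hj.isoPullback.hom ≫ pullback.fst p (Spec.map (CommRingCat.ofHom (residue R))) :=
      hj.isoPullback_hom_fst.symm
    conv_lhs => rw [h2]
    exact Scheme.Hom.ker_comp_of_isIso _ _
  rw [h1, stalkIdeal_comap, ker_residue hπ, stalkIdeal_ofIdealTop, Ideal.map_map, Ideal.map_span,
    Set.image_singleton, ← CommRingCat.hom_comp]
  congr 2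
  exact Scheme.Hom.germ_stalkMap_apply p ⊤ x trivial _

/-- The ideal of the closed fibre. -/
theorem ker_ideal (hj : IsPullback j q p (Spec.map (CommRingCat.ofHom (residue R)))) {π : R}
    (hπ : maximalIdeal R = Ideal.span {π}) (U : X.affineOpens) :
    j.ker.ideal U = Ideal.span {ores (le_top : U.1 ≤ ⊤) (fn p π)} := by
  have key : ∀ x (hx : x ∈ U.1), (j.ker.ideal U).map (X.presheaf.germ U.1 x hx).hom =
      (Ideal.span {ores (le_top : U.1 ≤ ⊤) (fn p π)}).map (X.presheaf.germ U.1 x hx).hom := by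
    intro x hx
    rw [← stalkIdeal_eq j.ker U hx, stalkIdeal_ker hj hπ, Ideal.map_span, Set.image_singleton]
    congr 2
    exact (Van.germ_ores le_top hx _).symm
  apply le_antisymm
  · rw [U.2.ideal_le_iff]
    exact fun x hx => (key x hx).le
  · rw [U.2.ideal_le_iff]
    exact fun x hx => (key x hx).ge

end Groth.Agent.Sga7.H543.SpecFib
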